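import Mathlib
import Groth.Agent.Variety2.DimScheme
import Groth.Agent.Variety2.DimFiber
import Groth.Agent.Variety2.DimTrdeg

/-!
# Morphisms of one-dimensional schemes over a field
-/

open CategoryTheory CategoryTheory.Limits AlgebraicGeometry IsLocalRing

universe u

namespace Groth.Curves1.CurveMor

variable {k : Type u} [Field k] {X Y : Scheme.{u}}

theorem height_le_one (hX : topologicalKrullDim X ≤ 1) (x : X) : Order.height x ≤ 1 := by
  rw [Groth.Variety2.Dim.dim_eq_iSup_height] at hX
  exact_mod_cast (le_iSup (fun z : X => ((Order.height z : ℕ∞) : WithBot ℕ∞)) x).trans hX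

theorem isMax_and_height_of_not_isClosed (p : X ⟶ Spec (CommRingCat.of k)) [LocallyOfFiniteType p]
    (hX : topologicalKrullDim X ≤ 1) {x : X} (hx : ¬ IsClosed ({x} : Set X)) :
    IsMax x ∧ Order.height x = 1 := by
  have h1 : Order.height x = 1 := le_antisymm (height_le_one hX x)
    (Order.one_le_iff_ne_zero.2 fun h => hx ((Groth.Variety2.Dim.height_eq_zero_iff x).1 h))
  refine ⟨fun z hz => ?_, h1⟩
  by_contra hzx
  have h2 := Groth.Variety2.Dim.height_toNat_lt p (lt_of_le_not_ge hz hzx)
  rw [h1] at h2
  exact not_lt.2 (height_le_one hX z) h2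

theorem mem_genericPoints_of_isMax {x : X} (hx : IsMax x) : x ∈ genericPoints (X : Type u) := by
  obtain ⟨Z, hZ, hxZ⟩ := exists_mem_irreducibleComponents_subset_of_isIrreducible
    (closure ({x} : Set X)) isIrreducible_singleton.closure
  obtain ⟨η, hη⟩ := QuasiSober.sober hZ.1 (isClosed_of_mem_irreducibleComponents Z hZ)
  have h1 : η ⤳ x := hη.specializes (hxZ (subset_closure rfl))
  have h2 : x ⤳ η := Scheme.le_iff_specializes.1 (hx (Scheme.le_iff_specializes.2 h1))
  show closure ({x} : Set X) ∈ irreducibleComponents (X : Type u)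
  rw [show x = η from (h2.antisymm h1).eq, hη.def]
  exact hZ

theorem finite_genericPoints [TopologicalSpace.NoetherianSpace X] :
    (genericPoints (X : Type u)).Finite := by
  have h := TopologicalSpace.NoetherianSpace.finite_irreducibleComponents (α := X)
  refine Set.Finite.of_finite_image (f := fun x => closure ({x} : Set X))
    (h.subset (by rintro _ ⟨x, hx, rfl⟩; exact hx)) ?_
  intro a _ b _ e
  exact (Inseparable.eq (inseparable_iff_closure_eq.2 e))

theorem finite_of_forall_isClosed [TopologicalSpace.NoetherianSpace X] {S : Set X} (hS : IsClosed S)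
    (h : ∀ x ∈ S, IsClosed ({x} : Set X)) : S.Finite := by
  obtain ⟨T, hT, hc, hi, rfl⟩ := TopologicalSpace.NoetherianSpace.exists_finite_set_isClosed_irreducible hS
  refine hT.sUnion fun Z hZ => ?_
  obtain ⟨η, hη⟩ := QuasiSober.sober (hi Z hZ) (hc Z hZ)
  rw [← hη.def, (h η ⟨Z, hZ, hη.mem⟩).closure_eq]
  exact Set.finite_singleton η

/-- A morphism from a scheme of dimension at most one over a field, preserving closed points and
not contracting curves, is quasi-finite. -/
theorem locallyQuasiFinite_of_map_closed (p : X ⟶ Spec (CommRingCat.of k)) [LocallyOfFiniteType p]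
    [QuasiCompact p] (f : X ⟶ Y) [LocallyOfFiniteType f] (hX : topologicalKrullDim X ≤ 1)
    (hcl : ∀ x : X, IsClosed ({x} : Set X) → IsClosed ({f x} : Set Y))
    (h : ∀ x : X, ¬ IsClosed ({x} : Set X) → ¬ IsClosed ({f x} : Set Y)) : LocallyQuasiFinite f := by
  have : IsLocallyNoetherian X := LocallyOfFiniteType.isLocallyNoetherian p
  have : CompactSpace X := QuasiCompact.compactSpace_of_compactSpace p
  have : IsNoetherian X := {}
  refine .of_finite_preimage_singleton f fun y => ?_
  by_cases hy : IsClosed ({y} : Set Y)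
  · refine finite_of_forall_isClosed (hy.preimage f.continuous) fun x hx => ?_
    by_contra hxc
    exact h x hxc ((Set.mem_singleton_iff.1 hx).symm ▸ hy)
  · refine finite_genericPoints.subset fun x hx => ?_
    refine mem_genericPoints_of_isMax (isMax_and_height_of_not_isClosed p hX fun hxc => hy ?_).1
    rw [Set.mem_preimage, Set.mem_singleton_iff] at hx
    exact hx ▸ hcl x hxc

/-- A morphism of schemes of dimension at most one over a field not contracting curves is
quasi-finite. -/
theorem locallyQuasiFinite (p : X ⟶ Spec (CommRingCat.of k)) (q : Y ⟶ Spec (CommRingCat.of k))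
    [LocallyOfFiniteType p] [LocallyOfFiniteType q] [QuasiCompact p] (f : X ⟶ Y) (hf : f ≫ q = p)
    (hX : topologicalKrullDim X ≤ 1)
    (h : ∀ x : X, ¬ IsClosed ({x} : Set X) → ¬ IsClosed ({f x} : Set Y)) : LocallyQuasiFinite f := by
  have : LocallyOfFiniteType (f ≫ q) := hf ▸ inferInstance
  have : LocallyOfFiniteType f := locallyOfFiniteType_of_comp f q
  have : JacobsonSpace Y := LocallyOfFiniteType.jacobsonSpace q
  exact locallyQuasiFinite_of_map_closed p f hX (fun x hx => f.closePoints_subset_preimage_closedPoints hx) h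

theorem not_isClosed_map_of_nontrivial (p : X ⟶ Spec (CommRingCat.of k)) [LocallyOfFiniteType p]
    (f : X ⟶ Y) (hX : topologicalKrullDim X ≤ 1)
    (h : ∀ Z ∈ irreducibleComponents (X : Type u), topologicalKrullDim Z = 1 → (f.base '' Z).Nontrivial)
    (x : X) (hx : ¬ IsClosed ({x} : Set X)) : ¬ IsClosed ({f x} : Set Y) := by
  obtain ⟨hmax, h1⟩ := isMax_and_height_of_not_isClosed p hX hx
  intro hc
  refine (h _ (mem_genericPoints_of_isMax hmax) ?_).not_subsingleton
    ((Set.subsingleton_singleton (a := f x)).anti ?_)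
  · rw [Groth.Variety2.Dim.dim_closure_singleton, h1]
    rfl
  · refine (image_closure_subset_closure_image f.continuous).trans ?_
    rw [Set.image_singleton, hc.closure_eq]

theorem not_isClosed_genericPoint [IrreducibleSpace Y] (hY : topologicalKrullDim Y = 1) :
    ¬ IsClosed ({genericPoint Y} : Set Y) := by
  intro h
  rw [Groth.Variety2.Dim.dim_eq_height_genericPoint,
    (Groth.Variety2.Dim.height_eq_zero_iff (genericPoint Y)).2 h] at hY
  exact zero_ne_one hY

theorem eq_genericPoint_of_not_isClosed [IrreducibleSpace X] (p : X ⟶ Spec (CommRingCat.of k))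
    [LocallyOfFiniteType p] (hX : topologicalKrullDim X ≤ 1) {x : X}
    (hx : ¬ IsClosed ({x} : Set X)) : x = genericPoint X := by
  have h1 := (isMax_and_height_of_not_isClosed p hX hx).1
  have h2 : genericPoint X ⤳ x := genericPoint_specializes x
  exact ((Scheme.le_iff_specializes.1 (h1 (Scheme.le_iff_specializes.2 h2))).antisymm h2).eq

theorem not_isClosed_map [IrreducibleSpace X] [IrreducibleSpace Y]
    (p : X ⟶ Spec (CommRingCat.of k)) [LocallyOfFiniteType p] (f : X ⟶ Y)
    (hX : topologicalKrullDim X ≤ 1) (hY : topologicalKrullDim Y = 1)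
    (hgen : f (genericPoint X) = genericPoint Y) (x : X) (hx : ¬ IsClosed ({x} : Set X)) :
    ¬ IsClosed ({f x} : Set Y) := by
  rw [eq_genericPoint_of_not_isClosed p hX hx, hgen]
  exact not_isClosed_genericPoint hY

/-- A nonconstant morphism to an irreducible one-dimensional scheme is dominant. -/
theorem map_genericPoint [IrreducibleSpace X] [IrreducibleSpace Y]
    (q : Y ⟶ Spec (CommRingCat.of k)) [LocallyOfFiniteType q]
    (f : X ⟶ Y) (hY : topologicalKrullDim Y ≤ 1) (h : (Set.range f.base).Nontrivial) :
    f (genericPoint X) = genericPoint Y := by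
  by_contra hne
  refine h.not_subsingleton ((Set.subsingleton_singleton (a := f (genericPoint X))).anti ?_)
  rintro _ ⟨x, rfl⟩
  have hc : IsClosed ({f (genericPoint X)} : Set Y) := by
    by_contra hc
    exact hne (eq_genericPoint_of_not_isClosed q hY hc)
  exact ((genericPoint_specializes x).map f.continuous).mem_closed hc rfl

theorem ringKrullDim_stalk_le_one (hY : topologicalKrullDim Y ≤ 1) (y : Y) :
    ringKrullDim (Y.presheaf.stalk y) ≤ 1 := by
  have : Nonempty Y := ⟨y⟩
  rw [ringKrullDim_stalk_eq_coheight]
  refine (Order.coheight_le_krullDim y).trans ?_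
  rw [Order.krullDim_eq_iSup_height_of_nonempty]
  exact_mod_cast iSup_le (height_le_one hY)

theorem isDedekindDomain_of_dim_le_one {R : Type u} [CommRing R] [IsDomain R] [IsNoetherianRing R]
    [IsIntegrallyClosed R] (h : ringKrullDim R ≤ 1) : IsDedekindDomain R := by
  have hK : Ring.KrullDimLE 1 R := Ring.krullDimLE_iff.mpr h
  have : Ring.DimensionLEOne R := ⟨fun hp hprime =>
    Ring.krullDimLE_one_iff_of_noZeroDivisors.mp hK _ hp hprime⟩
  exact {}

theorem isPrincipalIdealRing_of_local {R : Type u} [CommRing R] [IsLocalRing R] [IsDedekindDomain R] :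
    IsPrincipalIdealRing R :=
  IsPrincipalIdealRing.of_finite_maximals
    ((Set.finite_singleton (maximalIdeal R)).subset fun I hI => eq_maximalIdeal hI)

end Groth.Curves1.CurveMor
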