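import Mathlib
import Groth.Agent.Curves1.CurveMor.Basic

/-!
# Dominant morphisms to normal curves are flat
-/

open CategoryTheory CategoryTheory.Limits AlgebraicGeometry IsLocalRing

universe u

namespace Groth.Curves1.CurveMor

variable {X Y : Scheme.{u}} [IsIntegral X] [IsIntegral Y]

theorem stalkMap_injective (f : X ⟶ Y) (hgen : f (genericPoint X) = genericPoint Y) (x : X) :
    Function.Injective (f.stalkMap x).hom := by
  have hsp : genericPoint X ⤳ x := genericPoint_specializes x
  have hfield : IsField (Y.presheaf.stalk (f (genericPoint X))) := by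
    rw [hgen]
    exact Field.toIsField Y.functionField
  let := hfield.toField
  have h1 : Function.Injective (f.stalkMap (genericPoint X)).hom :=
    RingHom.injective (f.stalkMap (genericPoint X)).hom
  have h2 : Function.Injective
      (Y.presheaf.stalkSpecializes (hsp.map f.continuous) :
        Y.presheaf.stalk (f x) ⟶ Y.presheaf.stalk (f (genericPoint X))).hom := by
    intro a b hab
    apply IsFractionRing.injective (Y.presheaf.stalk (f x)) Y.functionField
    have e : Y.presheaf.stalkSpecializes (genericPoint_specializes (f x)) =
        Y.presheaf.stalkSpecializes (hsp.map f.continuous) ≫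
          Y.presheaf.stalkSpecializes (specializes_of_eq hgen.symm) :=
      (TopCat.Presheaf.stalkSpecializes_comp ..).symm
    show (Y.presheaf.stalkSpecializes (genericPoint_specializes (f x))).hom a =
      (Y.presheaf.stalkSpecializes (genericPoint_specializes (f x))).hom b
    rw [e, CommRingCat.hom_comp, RingHom.comp_apply, RingHom.comp_apply, hab]
  intro a b hab
  apply h2
  apply h1
  have e := congrArg (fun φ => φ.hom) (Scheme.Hom.stalkSpecializes_stalkMap f (genericPoint X) x hsp)
  simp only [CommRingCat.hom_comp] at e
  rw [← RingHom.comp_apply, e, RingHom.comp_apply, hab, ← RingHom.comp_apply, ← e, RingHom.comp_apply]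

theorem flat_of_dominant [IsLocallyNoetherian Y] (f : X ⟶ Y) (hgen : f (genericPoint X) = genericPoint Y)
    (hN : ∀ y : Y, IsIntegrallyClosed (Y.presheaf.stalk y)) (hY : topologicalKrullDim Y ≤ 1) :
    Flat f := by
  refine Flat.of_stalkMap f fun x => ?_
  have := hN (f x)
  have := isDedekindDomain_of_dim_le_one (ringKrullDim_stalk_le_one hY (f x))
  let := (f.stalkMap x).hom.toAlgebra
  have hinj : Function.Injective (algebraMap (Y.presheaf.stalk (f x)) (X.presheaf.stalk x)) :=
    stalkMap_injective f hgen x
  have : FaithfulSMul (Y.presheaf.stalk (f x)) (X.presheaf.stalk x) :=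
    (faithfulSMul_iff_algebraMap_injective _ _).2 hinj
  exact RingHom.flat_algebraMap_iff.mpr (inferInstance : Module.Flat (Y.presheaf.stalk (f x)) (X.presheaf.stalk x))

end Groth.Curves1.CurveMor
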