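import Mathlib
import Groth.Agent.Curves1.CurveMor.Flat
import Groth.Agent.Curves1.Node.NodeChar
import Groth.Agent.Ega4Algebra1.RegularLocal
import Groth.Agent.PropsBasic.LociBaseChange.Scheme
import Groth.Agent.VarietyBC.SmoothChart

/-!
# Smoothness of normal curves
-/

open CategoryTheory CategoryTheory.Limits AlgebraicGeometry IsLocalRing

universe u

namespace Groth.Curves1.CurveMor

attribute [local instance] Curv2.resAlgebra Curv2.stalkAlgebra

variable {k : Type u} [Field k] {X Y : Scheme.{u}} [X.Over (Spec (CommRingCat.of k))]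
  [Y.Over (Spec (CommRingCat.of k))]

theorem finite_residueField_of_isClosed [LocallyOfFiniteType (X ↘ (Spec (CommRingCat.of k)))] {x : X}
    (hx : IsClosed ({x} : Set X)) : Module.Finite k (X.residueField x) := by
  have := LocallyOfFiniteType.jacobsonSpace (X ↘ (Spec (CommRingCat.of k)))
  have : IsClosedImmersion (X.fromSpecResidueField x) := isClosed_singleton_iff_isClosedImmersion.mp hx
  have hfin : IsFinite (X.fromSpecResidueField x ≫ (X ↘ (Spec (CommRingCat.of k)))) :=
    (isFinite_iff_locallyOfFiniteType_of_jacobsonSpace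
      (f := X.fromSpecResidueField x ≫ (X ↘ (Spec (CommRingCat.of k))))).mpr inferInstance
  rw [Groth.VarietyBC.fromSpecResidueField_str, IsFinite.SpecMap_iff] at hfin
  exact hfin

theorem smooth_of_forall_closed [LocallyOfFiniteType (X ↘ (Spec (CommRingCat.of k)))]
    [LocallyOfFinitePresentation (X ↘ (Spec (CommRingCat.of k)))]
    (h : ∀ x : X, IsClosed ({x} : Set X) → x ∈ (X ↘ (Spec (CommRingCat.of k))).smoothLocus) :
    Smooth (X ↘ (Spec (CommRingCat.of k))) := by
  have := LocallyOfFiniteType.jacobsonSpace (X ↘ (Spec (CommRingCat.of k)))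
  rw [← Scheme.Hom.smoothLocus_eq_top_iff]
  refine eq_top_iff.2 fun x _ => ?_
  obtain ⟨x₀, hx₀, hx₀'⟩ := nonempty_inter_closedPoints (Z := closure ({x} : Set X))
    ⟨x, subset_closure rfl⟩ isClosed_closure.isLocallyClosed
  exact (specializes_iff_mem_closure.2 hx₀).mem_open
    (X ↘ (Spec (CommRingCat.of k))).smoothLocus.isOpen (h x₀ hx₀')

theorem mem_smoothLocus_of_normal [LocallyOfFiniteType (X ↘ (Spec (CommRingCat.of k)))]
    [LocallyOfFinitePresentation (X ↘ (Spec (CommRingCat.of k)))]
    [IsIntegral X] (hX : topologicalKrullDim X ≤ 1) (x : X) [IsIntegrallyClosed (X.presheaf.stalk x)]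
    (hsep : Algebra.IsSeparable k (X.residueField x)) :
    x ∈ (X ↘ (Spec (CommRingCat.of k))).smoothLocus := by
  have := LocallyOfFiniteType.isLocallyNoetherian (X ↘ (Spec (CommRingCat.of k)))
  have := isDedekindDomain_of_dim_le_one (ringKrullDim_stalk_le_one hX x)
  have := isPrincipalIdealRing_of_local (R := X.presheaf.stalk x)
  refine (Groth.VarietyBC.mem_smoothLocus_iff_isRegularLocalRing x ?_).2 inferInstance
  have : Algebra.FormallyEtale k (X.residueField x) := Algebra.FormallyEtale.of_isSeparable k _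
  infer_instance

/-- Smoothness descends along flat surjective morphisms of schemes of finite type over a field. -/
theorem smooth_of_flat_surjective [LocallyOfFiniteType (Y ↘ (Spec (CommRingCat.of k)))]
    [Smooth (X ↘ (Spec (CommRingCat.of k)))] (f : X ⟶ Y) [Flat f] [Surjective f]
    (hf : f ≫ (Y ↘ (Spec (CommRingCat.of k))) = X ↘ (Spec (CommRingCat.of k))) :
    Smooth (Y ↘ (Spec (CommRingCat.of k))) := by
  let K := AlgebraicClosure k
  let : (Curv2.bc k X K).Over (Spec (CommRingCat.of K)) := ⟨Curv2.bcSnd k X K⟩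
  let : (Curv2.bc k Y K).Over (Spec (CommRingCat.of K)) := ⟨Curv2.bcSnd k Y K⟩
  have : IsLocallyNoetherian Y := LocallyOfFiniteType.isLocallyNoetherian (Y ↘ (Spec (CommRingCat.of k)))
  have : LocallyOfFinitePresentation (Y ↘ (Spec (CommRingCat.of k))) := inferInstance
  have : LocallyOfFiniteType ((Curv2.bc k Y K) ↘ (Spec (CommRingCat.of K))) :=
    inferInstanceAs (LocallyOfFiniteType (Curv2.bcSnd k Y K))
  have : LocallyOfFinitePresentation ((Curv2.bc k Y K) ↘ (Spec (CommRingCat.of K))) :=
    inferInstanceAs (LocallyOfFinitePresentation (Curv2.bcSnd k Y K))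
  have : Smooth ((Curv2.bc k X K) ↘ (Spec (CommRingCat.of K))) :=
    MorphismProperty.pullback_snd (P := (@Smooth : MorphismProperty Scheme.{u})) _ _ inferInstance
  let fK : Curv2.bc k X K ⟶ Curv2.bc k Y K := pullback.lift (Curv2.bcFst k X K ≫ f) (Curv2.bcSnd k X K)
    (by rw [Category.assoc, hf]; exact pullback.condition)
  have hfK : fK ≫ Curv2.bcSnd k Y K = Curv2.bcSnd k X K := pullback.lift_snd _ _ _
  have hbig : IsPullback (Curv2.bcFst k X K) (fK ≫ Curv2.bcSnd k Y K) (f ≫ (Y ↘ (Spec (CommRingCat.of k))))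
      (Spec.map (CommRingCat.ofHom (algebraMap k K))) := by
    rw [hfK, hf]
    exact IsPullback.of_hasPullback _ _
  have hsq : IsPullback (Curv2.bcFst k X K) fK f (Curv2.bcFst k Y K) :=
    hbig.of_bot (pullback.lift_fst _ _ _).symm (IsPullback.of_hasPullback _ _)
  have : Flat fK := MorphismProperty.of_isPullback (P := (@Flat : MorphismProperty Scheme.{u})) hsq ‹_›
  have : Surjective fK :=
    MorphismProperty.of_isPullback (P := (@Surjective : MorphismProperty Scheme.{u})) hsq ‹_›
  have hK : Smooth ((Curv2.bc k Y K) ↘ (Spec (CommRingCat.of K))) := by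
    refine smooth_of_forall_closed fun y hy => ?_
    obtain ⟨x, rfl⟩ := fK.surjective y
    have := Node.isNoetherianRing_stalk (k := K) (fK x)
    have := Groth.VarietyBC.isRegularLocalRing_of_mem_smoothLocus (k := K) (x := x)
      (by rw [Scheme.Hom.smoothLocus_eq_top]; trivial)
    let := (fK.stalkMap x).hom.toAlgebra
    have : IsLocalHom (algebraMap ((Curv2.bc k Y K).presheaf.stalk (fK x)) ((Curv2.bc k X K).presheaf.stalk x)) :=
      inferInstanceAs <| IsLocalHom (fK.stalkMap x).hom
    have : Module.Flat ((Curv2.bc k Y K).presheaf.stalk (fK x)) ((Curv2.bc k X K).presheaf.stalk x) :=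
      Flat.stalkMap fK x
    refine (Groth.VarietyBC.mem_smoothLocus_iff_isRegularLocalRing (k := K) (fK x) ?_).2
      (Groth.Ega4Algebra1.isRegularLocalRing_of_flat _ ((Curv2.bc k X K).presheaf.stalk x))
    have := finite_residueField_of_isClosed (k := K) hy
    have : Algebra.IsIntegral K ((Curv2.bc k Y K).residueField (fK x)) := inferInstance
    have e : K ≃ₐ[K] (Curv2.bc k Y K).residueField (fK x) :=
      AlgEquiv.ofBijective (Algebra.ofId K _) IsAlgClosed.algebraMap_bijective_of_isIntegral
    exact Algebra.FormallySmooth.of_equiv e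
  refine smooth_of_forall_closed fun y _ => ?_
  have : Surjective (Spec.map (CommRingCat.ofHom (algebraMap k K))) :=
    ⟨fun y => ⟨⟨⊥, Ideal.isPrime_bot⟩, Subsingleton.elim _ _⟩⟩
  obtain ⟨z, rfl⟩ := (Curv2.bcFst k Y K).surjective y
  have hpb : IsPullback (Curv2.bcFst k Y K) (Curv2.bcSnd k Y K) (Y ↘ (Spec (CommRingCat.of k)))
      (Spec.map (CommRingCat.ofHom (algebraMap k K))) := IsPullback.of_hasPullback _ _
  refine Groth.PropsBasic.Loci.mem_smoothLocus_of_flat hpb (x' := z) ?_
  show z ∈ ((Curv2.bc k Y K) ↘ (Spec (CommRingCat.of K))).smoothLocus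
  rw [Scheme.Hom.smoothLocus_eq_top]
  trivial

end Groth.Curves1.CurveMor
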