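import Mathlib
import Groth.Agent.Curves1.CurveMor.Smooth
import Groth.Agent.FibreDim.Smooth
import Groth.Agent.FibreDim.RelDim
import Groth.Agent.FibreDim.Composition
import Groth.Agent.Curves1.Node.AtWorst

/-!
# Differentials at smooth points of curves
-/

open CategoryTheory CategoryTheory.Limits AlgebraicGeometry IsLocalRing Topology

universe u

namespace Groth.Curves1.CurveMor

attribute [local instance] Curv2.resAlgebra Curv2.stalkAlgebra

variable {k : Type u} [Field k]

theorem localDim_eq_fibreDimAt {Z : Scheme.{u}} (f : Z ⟶ Spec (CommRingCat.of k)) (z : Z) :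
    FlatMor.fibreDimAt f z = FlatMor.localDim Z z :=
  Groth.FibreDim.fibreDimAt_eq_of_range f (f z) (e := id) IsEmbedding.id
    (Set.range_id.trans (Set.eq_univ_of_forall fun w => Subsingleton.elim (f w) (f z)).symm) z

/-- The local rings of a smooth curve have dimension at most one. -/
theorem ringKrullDim_stalk_le_one_of_smooth {X : Scheme.{u}} (p : X ⟶ Spec (CommRingCat.of k))
    (U : X.Opens) [SmoothOfRelativeDimension 1 (U.ι ≫ p)] {x : X} (hx : x ∈ U) :
    ringKrullDim (X.presheaf.stalk x) ≤ 1 := by
  have : Smooth (U.ι ≫ p) := SmoothOfRelativeDimension.smooth 1 _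
  have : LocallyOfFiniteType (U.ι ≫ p) := inferInstance
  have h1 := (Groth.FibreDim.forall_component_dim_eq_iff (U.ι ≫ p) 1).2 fun z => by
    rw [← localDim_eq_fibreDimAt (U.ι ≫ p) z]
    exact Groth.FibreDim.fibreDimAt_eq_of_smoothOfRelativeDimension 1 (U.ι ≫ p) z
  rw [Nat.cast_one] at h1
  have hdim : topologicalKrullDim (U : Scheme.{u}) ≤ 1 := by
    rw [Groth.Variety2.Dim.dim_eq_iSup_height]
    refine iSup_le fun z => ?_
    obtain ⟨η, hηz, hη⟩ := Groth.FibreDim.exists_genericPoint_specializes z
    have h2 := (Node.dim_irreducibleComponents_iff (U.ι ≫ p)).1 h1 η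
      (Groth.FibreDim.isMax_of_mem_genericPoints hη)
    exact_mod_cast h2 ▸ Order.height_mono (Scheme.le_iff_specializes.2 hηz)
  have h3 := ringKrullDim_stalk_le_one (Y := (U : Scheme.{u})) hdim ⟨x, hx⟩
  rwa [ringKrullDim_eq_of_ringEquiv (U.stalkIso ⟨x, hx⟩).commRingCatIsoToRingEquiv] at h3

/-- In a formally smooth local algebra with principal maximal ideal and separable residue field,
the differential of a uniformizer is a basis. -/
theorem bijective_D_uniformizer {R : Type u} [CommRing R] [IsLocalRing R] [IsDomain R]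
    [IsNoetherianRing R] [Algebra k R] [Algebra.EssFiniteType k R] [Algebra.FormallySmooth k R]
    [Algebra.IsSeparable k (ResidueField R)]
    {s : R} (hs : maximalIdeal R = Ideal.span {s}) (hs0 : s ≠ 0) :
    Function.Bijective (fun a : R => a • KaehlerDifferential.D k R s) := by
  have : Algebra.FormallyEtale k (ResidueField R) := Algebra.FormallyEtale.of_isSeparable k _
  let φ : R →ₗ[R] Ω[R⁄k] := LinearMap.toSpanSingleton R _ (KaehlerDifferential.D k R s)
  have hsurj : Function.Surjective φ := by
    rw [← LinearMap.range_eq_top]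
    have hex := KaehlerDifferential.range_kerCotangentToTensor k R (ResidueField R) residue_surjective
    have hle : (⊤ : Submodule R Ω[R⁄k]) ≤ LinearMap.range φ ⊔ maximalIdeal R • ⊤ := by
      intro ω _
      have h1 : (1 : ResidueField R) ⊗ₜ[R] ω ∈ LinearMap.range
          (KaehlerDifferential.kerCotangentToTensor k R (ResidueField R)) := by
        rw [hex, Submodule.restrictScalars_mem, LinearMap.mem_ker]
        exact Subsingleton.elim _ _
      obtain ⟨c, hc⟩ := h1
      obtain ⟨⟨a, ha⟩, rfl⟩ := Ideal.toCotangent_surjective _ c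
      rw [KaehlerDifferential.kerCotangentToTensor_toCotangent] at hc
      have hker : RingHom.ker (algebraMap R (ResidueField R)) = maximalIdeal R := ker_residue
      rw [hker, hs, Ideal.mem_span_singleton'] at ha
      obtain ⟨r, rfl⟩ := ha
      have hsm : s ∈ maximalIdeal R := hs ▸ Ideal.mem_span_singleton_self s
      have h2 : (1 : ResidueField R) ⊗ₜ[R] (ω - φ r) = 0 := by
        rw [TensorProduct.tmul_sub, ← hc]
        show (1 : ResidueField R) ⊗ₜ[R] KaehlerDifferential.D k R (r * s) -
          (1 : ResidueField R) ⊗ₜ[R] (r • KaehlerDifferential.D k R s) = 0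
        rw [Derivation.leibniz, TensorProduct.tmul_add, add_sub_cancel_left,
          ← TensorProduct.smul_tmul, ← Algebra.algebraMap_eq_smul_one,
          show algebraMap R (ResidueField R) s = 0 from (residue_eq_zero_iff s).2 hsm,
          TensorProduct.zero_tmul]
      have h3 : ω - φ r ∈ maximalIdeal R • (⊤ : Submodule R Ω[R⁄k]) := by
        have h4 : ((1 : R ⧸ maximalIdeal R) ⊗ₜ[R] (ω - φ r)) = 0 := h2
        have h5 := congrArg (TensorProduct.quotTensorEquivQuotSMul Ω[R⁄k] (maximalIdeal R)) h4
        rw [map_zero] at h5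
        rwa [show (1 : R ⧸ maximalIdeal R) = Ideal.Quotient.mk _ 1 from rfl,
          TensorProduct.quotTensorEquivQuotSMul_mk_tmul, one_smul,
          Submodule.Quotient.mk_eq_zero] at h5
      rw [← add_sub_cancel (φ r) ω]
      exact Submodule.add_mem_sup (LinearMap.mem_range_self φ r) h3
    exact top_le_iff.1 (Submodule.le_of_le_smul_of_le_jacobson_bot Module.Finite.fg_top
      (maximalIdeal_le_jacobson _) hle)
  refine ⟨?_, hsurj⟩
  obtain ⟨σ, hσ⟩ := Module.projective_lifting_property φ LinearMap.id hsurj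
  have hσ' : ∀ ω, φ (σ ω) = ω := fun ω => by simpa using LinearMap.congr_fun hσ ω
  have hidem : σ (φ 1) * σ (φ 1) = σ (φ 1) := by
    conv_rhs => rw [← hσ' (φ 1)]
    rw [← smul_eq_mul, ← map_smul, ← map_smul, smul_eq_mul, mul_one]
  rcases mul_eq_zero.1 (show σ (φ 1) * (σ (φ 1) - 1) = 0 by rw [mul_sub, hidem, mul_one, sub_self])
    with h0 | h1
  · exfalso
    have hz : ∀ ω : Ω[R⁄k], ω = 0 := fun ω => by
      obtain ⟨r, rfl⟩ := hsurj ω
      rw [show φ r = r • φ 1 by rw [← map_smul, smul_eq_mul, mul_one],
        ← hσ' (φ 1), h0, map_zero, smul_zero]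
    have : Subsingleton Ω[R⁄k] := ⟨fun a b => (hz a).trans (hz b).symm⟩
    have : Algebra.FormallyUnramified k R := ⟨this⟩
    have h := Algebra.FormallyUnramified.map_maximalIdeal (R := k) (S := R)
    rw [maximalIdeal_eq_bot, Ideal.map_bot, hs, eq_comm, Ideal.span_singleton_eq_bot] at h
    exact hs0 h
  · intro a b hab
    have h2 := congrArg σ (show φ a = φ b from hab)
    rw [show φ a = a • φ 1 by rw [← map_smul, smul_eq_mul, mul_one],
      show φ b = b • φ 1 by rw [← map_smul, smul_eq_mul, mul_one], map_smul, map_smul,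
      sub_eq_zero.1 h1] at h2
    simpa using h2

end Groth.Curves1.CurveMor
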